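import Groth.Agent.LC.GorLoc
import Groth.Agent.LC.DepthExt
import Groth.Prelude.Def_W4c5grrsingularflatDSeq
import Mathlib.RingTheory.RegularLocalRing.Defs
import Mathlib.RingTheory.Ideal.AssociatedPrime.Finiteness
import Mathlib.RingTheory.Ideal.Prime
import Mathlib.RingTheory.Nakayama

/-!
# d-sequences generating generically regular almost complete intersection primes
-/

set_option autoImplicit false

universe u

open RingTheory.Sequence IsLocalRing

namespace Groth.Agent.GRRSingLib

variable {T : Type u} [CommRing T] [IsNoetherianRing T] (p : Ideal T) [p.IsPrime]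

local notation "Tp" => Localization.AtPrime p

/-- Image in the cotangent space at `p`. -/
noncomputable def cot (a : p) : CotangentSpace (Localization.AtPrime p) :=
  (maximalIdeal (Localization.AtPrime p)).toCotangent
    ⟨algebraMap T (Localization.AtPrime p) a, (IsLocalization.AtPrime.to_map_mem_maximal_iff _ p _).2 a.2⟩

/-- Span in the cotangent space at `p` of the elements of an ideal. -/
noncomputable def cotSpan (L : Ideal T) :
    Submodule (ResidueField (Localization.AtPrime p)) (CotangentSpace (Localization.AtPrime p)) :=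
  Submodule.span _ (cot p '' {a : p | (a : T) ∈ L})

theorem mem_of_mem_cotSpan (L : Ideal T) (y : maximalIdeal Tp)
    (hy : (maximalIdeal Tp).toCotangent y ∈ cotSpan p L) :
    (y : Tp) ∈ L.map (algebraMap T Tp) ⊔ maximalIdeal Tp ^ 2 := by
  suffices h : ∀ w ∈ cotSpan p L, ∃ z : maximalIdeal Tp,
      (maximalIdeal Tp).toCotangent z = w ∧ (z : Tp) ∈ L.map (algebraMap T Tp) by
    obtain ⟨z, hz, hzL⟩ := h _ hy
    rw [show (y : Tp) = (z : Tp) + ((y : Tp) - z) by ring]
    exact Submodule.add_mem_sup hzL ((Ideal.toCotangent_eq _).1 hz.symm)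
  intro w hw
  induction hw using Submodule.span_induction with
  | mem w h =>
    obtain ⟨a, ha, rfl⟩ := h
    exact ⟨_, rfl, Ideal.mem_map_of_mem _ ha⟩
  | zero => exact ⟨0, map_zero _, zero_mem _⟩
  | add a b _ _ iha ihb =>
    obtain ⟨z, rfl, hz⟩ := iha
    obtain ⟨z', rfl, hz'⟩ := ihb
    exact ⟨z + z', map_add _ _ _, Ideal.add_mem _ hz hz'⟩
  | smul r a _ iha =>
    obtain ⟨z, rfl, hz⟩ := iha
    obtain ⟨r, rfl⟩ := residue_surjective r
    exact ⟨r • z, map_smul _ _ _, Ideal.mul_mem_left _ _ hz⟩

theorem le_map_of_cotSpan_eq_top (L : Ideal T) (h : cotSpan p L = ⊤) :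
    maximalIdeal Tp ≤ L.map (algebraMap T Tp) := by
  haveI : IsNoetherianRing Tp := IsLocalization.isNoetherianRing p.primeCompl _ inferInstance
  refine Submodule.le_of_le_smul_of_le_jacobson_bot (IsNoetherian.noetherian _) (maximalIdeal_le_jacobson _) ?_
  intro y hy
  have := mem_of_mem_cotSpan p L ⟨y, hy⟩ (h ▸ Submodule.mem_top)
  rwa [pow_two] at this

variable [IsLocalRing T]

/-- Generators of `p` whose first `i` members are regular and independent at `p`. -/
theorem exists_prefix {g c : ℕ} (hg : LocCoh.idealDepth p T = g)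
    (hdim : Module.finrank (ResidueField Tp) (CotangentSpace Tp) = g)
    (hlow : ∀ (L : Ideal T) (n : ℕ), n < g → maximalIdeal Tp ≤ L.map (algebraMap T Tp) →
      ¬ ∃ s : Finset T, s.card ≤ n ∧ L ≤ Ideal.span s ∧ ∀ a ∈ s, a ∈ p)
    (gen : Fin c → T) (hgen : Ideal.span (Set.range gen) = p) :
    ∀ i : ℕ, i ≤ g → ∃ t : Fin c → T, Ideal.span (Set.range t) = p ∧ i ≤ c ∧
      IsWeaklyRegular T ((List.ofFn t).take i) ∧
      i ≤ Module.finrank (ResidueField Tp) (cotSpan p (Ideal.ofList ((List.ofFn t).take i))) := by
  classical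
  haveI : IsNoetherianRing Tp := IsLocalization.isNoetherianRing p.primeCompl _ inferInstance
  intro i
  induction i with
  | zero => exact fun _ => ⟨gen, hgen, Nat.zero_le _, by rw [List.take_zero]; exact .nil T T, Nat.zero_le _⟩
  | succ i ih =>
    intro hij
    obtain ⟨t, ht, hic, hreg, hrk⟩ := ih (by omega)
    have hpm : p ≤ maximalIdeal T := le_maximalIdeal (Ideal.IsPrime.ne_top inferInstance)
    have hL : ∀ r ∈ (List.ofFn t).take i, r ∈ p := fun r hr => by
      obtain ⟨l, rfl⟩ := List.mem_ofFn.1 (List.mem_of_mem_take hr)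
      exact ht ▸ Ideal.subset_span ⟨l, rfl⟩
    set L := Ideal.ofList ((List.ofFn t).take i)
    let Q := T ⧸ (L • ⊤ : Submodule T T)
    have hd : LocCoh.idealDepth p Q + i = g := by
      have := LC.idealDepth_quot_ofList (M := T) p hreg hL
      rwa [hg, List.length_take, List.length_ofFn, Nat.min_eq_left hic] at this
    have htop : p • (⊤ : Submodule T T) ≠ ⊤ := LC.smul_top_ne_top_of_le_maximal hpm
    obtain ⟨r, hrp, hr⟩ : ∃ r ∈ p, IsSMulRegular Q r := by
      by_contra hc
      push Not at hc
      rw [LC.idealDepth_eq_zero_of_forall p (LC.smul_top_quot_ne_top p htop (LC.ofList_le p hL)) hc, zero_add] at hd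
      have : i = g := by exact_mod_cast hd
      omega
    let A : Ideal T := (L.map (algebraMap T Tp) ⊔ maximalIdeal Tp ^ 2).comap (algebraMap T Tp)
    have hnle : ¬ p ≤ A := fun h => by
      refine hlow L i (by omega) ?_ ⟨((List.ofFn t).take i).toFinset, ?_, ?_, fun a ha => hL a (List.mem_toFinset.1 ha)⟩
      · refine Submodule.le_of_le_smul_of_le_jacobson_bot (IsNoetherian.noetherian _)
          (maximalIdeal_le_jacobson _) ?_
        rw [← Localization.AtPrime.map_eq_maximalIdeal]
        refine (Ideal.map_le_iff_le_comap.2 h).trans ?_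
        rw [Localization.AtPrime.map_eq_maximalIdeal, pow_two]
        rfl
      · refine (List.toFinset_card_le _).trans ?_
        rw [List.length_take, List.length_ofFn]
        omega
      · rw [List.coe_toFinset]
    let B : Ideal T := L ⊔ maximalIdeal T • p
    have hnleB : ¬ p ≤ B := fun h => by
      have hle : p ≤ L := Submodule.le_of_le_smul_of_le_jacobson_bot (IsNoetherian.noetherian p)
        (maximalIdeal_le_jacobson _) h
      exact hnle (hle.trans fun y hy => Ideal.mem_comap.2 (Ideal.mem_sup_left (Ideal.mem_map_of_mem _ hy)))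
    obtain ⟨x, hxp, hxA, hxB, hxreg⟩ : ∃ x ∈ p, x ∉ A ∧ x ∉ B ∧ IsSMulRegular Q x := by
      by_contra hc
      push Not at hc
      have hfin := associatedPrimes.finite T Q
      let f : Bool ⊕ Ideal T → Ideal T := Sum.elim (fun b => if b then A else B) id
      let S : Set (Bool ⊕ Ideal T) :=
        ((Finset.univ.image Sum.inl ∪ hfin.toFinset.image Sum.inr : Finset (Bool ⊕ Ideal T)) : Set (Bool ⊕ Ideal T))
      have hsub : (p : Set T) ⊆ ⋃ o ∈ S, ↑(f o) := by
        intro x hx
        by_cases hxA : x ∈ A
        · exact Set.mem_biUnion (x := Sum.inl true) (by simp [S]) hxA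
        by_cases hxB : x ∈ B
        · exact Set.mem_biUnion (x := Sum.inl false) (by simp [S]) hxB
        have hnr := hc x hx hxA hxB
        have hz : x ∈ ⋃ q ∈ associatedPrimes T Q, (q : Set T) := by
          rw [biUnion_associatedPrimes_eq_zero_divisors T Q]
          by_contra hno
          refine hnr (IsSMulRegular.of_right_eq_zero_of_smul fun y hy => ?_)
          by_contra hy0
          exact hno ⟨y, hy0, hy⟩
        obtain ⟨q, hq, hxq⟩ := Set.mem_iUnion₂.1 hz
        exact Set.mem_biUnion (x := Sum.inr q) (by simp [S, hq]) hxq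
      rw [Ideal.subset_union_prime (Sum.inl true) (Sum.inl false)] at hsub
      · obtain ⟨o, ho, hle⟩ := hsub
        rcases o with (_ | _) | q
        · exact hnleB hle
        · exact hnle hle
        · have hq : q ∈ associatedPrimes T Q := by simpa [S] using ho
          have hz : r ∈ ⋃ q ∈ associatedPrimes T Q, (q : Set T) := Set.mem_biUnion hq (hle hrp)
          rw [biUnion_associatedPrimes_eq_zero_divisors T Q] at hz
          obtain ⟨y, hy0, hy⟩ := hz
          exact hy0 (hr (hy.trans (smul_zero r).symm))
      · intro o ho ha hb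
        rcases o with (_ | _) | q
        · exact absurd rfl hb
        · exact absurd rfl ha
        · exact (show q ∈ associatedPrimes T Q by simpa [S] using ho).isPrime
    obtain ⟨a, ha⟩ := Ideal.mem_span_range_iff_exists_fun.1 (ht.symm ▸ hxp)
    obtain ⟨l, hil, hl⟩ : ∃ l : Fin c, i ≤ (l : ℕ) ∧ IsUnit (a l) := by
      by_contra hc
      push Not at hc
      refine hxB (ha ▸ Ideal.sum_mem _ fun l _ => ?_)
      by_cases hli : i ≤ (l : ℕ)
      · exact Ideal.mem_sup_right (Submodule.smul_mem_smul ((mem_maximalIdeal _).2 (hc l hli))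
          (ht ▸ Ideal.subset_span ⟨l, rfl⟩))
      · refine Ideal.mem_sup_left (Ideal.mul_mem_left _ _ (Ideal.subset_span ?_))
        show t l ∈ (List.ofFn t).take i
        rw [List.mem_take_iff_getElem]
        exact ⟨(l : ℕ), lt_min (not_le.1 hli) (by rw [List.length_ofFn]; exact l.2), by simp⟩
    have hic' : i < c := lt_of_le_of_lt hil l.2
    let σ := Equiv.swap (⟨i, hic'⟩ : Fin c) l
    let t' : Fin c → T := Function.update t l x ∘ σ
    refine ⟨t', ?_, hic', ?_⟩
    · rw [Set.range_comp, σ.surjective.range_eq, Set.image_univ]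
      refine le_antisymm (Ideal.span_le.2 ?_) ?_
      · rintro _ ⟨m, rfl⟩
        rcases eq_or_ne m l with rfl | hm
        · rw [Function.update_self]; exact hxp
        · rw [Function.update_of_ne hm]; exact ht ▸ Ideal.subset_span ⟨m, rfl⟩
      · rw [← ht]
        refine Ideal.span_le.2 ?_
        rintro _ ⟨m, rfl⟩
        have hmem : ∀ m, m ≠ l → t m ∈ Ideal.span (Set.range (Function.update t l x)) := fun m hm =>
          Ideal.subset_span ⟨m, Function.update_of_ne hm _ _⟩
        rcases eq_or_ne m l with rfl | hm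
        · rw [← Finset.add_sum_erase _ _ (Finset.mem_univ m)] at ha
          have h1 : a m * t m ∈ Ideal.span (Set.range (Function.update t m x)) := by
            rw [eq_sub_of_add_eq ha]
            exact sub_mem (Ideal.subset_span ⟨m, Function.update_self _ _ _⟩)
              (Ideal.sum_mem _ fun b hb => Ideal.mul_mem_left _ _ (hmem b (Finset.ne_of_mem_erase hb)))
          exact (Ideal.unit_mul_mem_iff_mem _ hl).1 h1
        · exact hmem m hm
    · have e : (List.ofFn t').take (i + 1) = (List.ofFn t).take i ++ [x] := by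
        refine List.ext_getElem (by simp; omega) fun m h1 h2 => ?_
        simp only [List.length_take, List.length_ofFn] at h1
        rw [List.getElem_take, List.getElem_ofFn]
        by_cases hm : m < i
        · rw [List.getElem_append_left (by simp; omega), List.getElem_take, List.getElem_ofFn]
          have hne1 : (⟨m, by omega⟩ : Fin c) ≠ ⟨i, hic'⟩ := fun h => by simp [Fin.ext_iff] at h; omega
          have hne2 : (⟨m, by omega⟩ : Fin c) ≠ l := fun h => by rw [← h] at hil; simp at hil; omega
          show Function.update t l x (σ _) = _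
          rw [Equiv.swap_apply_of_ne_of_ne hne1 hne2, Function.update_of_ne hne2]
        · obtain rfl : m = i := by omega
          rw [List.getElem_append_right (by simp)]
          show Function.update t l x (σ _) = _
          rw [show σ ⟨m, by omega⟩ = l from Equiv.swap_apply_left _ _, Function.update_self]
          simp
      rw [e, LC.isWeaklyRegular_concat_iff]
      refine ⟨⟨hreg, hxreg⟩, ?_⟩
      have hle : L ≤ Ideal.ofList ((List.ofFn t).take i ++ [x]) :=
        Ideal.span_mono fun r hr => List.mem_append_left _ hr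
      have hlt : cotSpan p L < cotSpan p (Ideal.ofList ((List.ofFn t).take i ++ [x])) := by
        refine lt_of_le_of_ne (Submodule.span_mono (Set.image_mono fun a ha => hle ha)) fun heq => hxA ?_
        have hmem : cot p ⟨x, hxp⟩ ∈ cotSpan p (Ideal.ofList ((List.ofFn t).take i ++ [x])) :=
          Submodule.subset_span ⟨⟨x, hxp⟩, Ideal.subset_span (List.mem_append_right _ (List.mem_singleton.2 rfl)), rfl⟩
        rw [← heq] at hmem
        exact Ideal.mem_comap.2 (mem_of_mem_cotSpan p L _ hmem)
      exact Nat.succ_le_of_lt (hrk.trans_lt (Submodule.finrank_lt_finrank_of_lt hlt))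

/-- A generically regular prime generated by at most `height + 1` elements is generated by a d-sequence. -/
theorem exists_dSeq [LocCoh.IsCohenMacaulayLocalRing T] (hgen : (Submodule.spanFinrank p : ℕ∞) ≤ p.height + 1)
    [IsRegularLocalRing Tp] : ∃ ts : List T, Ideal.ofList ts = p ∧ W4c5grrsingularflat.IsDSeq ts := by
  classical
  have hpm : p ≤ maximalIdeal T := le_maximalIdeal (Ideal.IsPrime.ne_top inferInstance)
  obtain ⟨g, hg⟩ : ∃ g : ℕ, p.height = g := ⟨_, (ENat.coe_toNat
    (p.height_ne_top (Ideal.IsPrime.ne_top inferInstance))).symm⟩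
  have hg' : LocCoh.idealDepth p T = g := (LC.idealDepth_self_eq_height p).trans hg
  have hdimT : ringKrullDim Tp = (g : WithBot ℕ∞) := by
    rw [IsLocalization.AtPrime.ringKrullDim_eq_height p Tp, hg]
    rfl
  have hdim : Module.finrank (ResidueField Tp) (CotangentSpace Tp) = g := by
    have := (IsRegularLocalRing.iff_finrank_cotangentSpace Tp).1 inferInstance
    rw [hdimT] at this
    exact_mod_cast this
  have hlow : ∀ (L : Ideal T) (n : ℕ), n < g → maximalIdeal Tp ≤ L.map (algebraMap T Tp) →
      ¬ ∃ s : Finset T, s.card ≤ n ∧ L ≤ Ideal.span s ∧ ∀ a ∈ s, a ∈ p := by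
    rintro L n hn hL ⟨s, hs, hLs, hsp⟩
    have hK : Ideal.span ((s.image (algebraMap T Tp) : Finset Tp) : Set Tp) = maximalIdeal Tp := by
      rw [Finset.coe_image, ← Ideal.map_span]
      refine le_antisymm ?_ (hL.trans (Ideal.map_mono hLs))
      rw [← Localization.AtPrime.map_eq_maximalIdeal]
      exact Ideal.map_mono (Ideal.span_le.2 hsp)
    have h1 := IsRegularLocalRing.spanFinrank_maximalIdeal (R := Tp)
    have h2 := Submodule.spanFinrank_span_le_ncard_of_finite (R := Tp)
      (s.image (algebraMap T Tp)).finite_toSet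
    rw [show Submodule.span Tp _ = maximalIdeal Tp from hK, Set.ncard_coe_finset] at h2
    rw [hdimT] at h1
    have : (maximalIdeal Tp).spanFinrank = g := by exact_mod_cast h1
    have := Finset.card_image_le (f := algebraMap T Tp) (s := s)
    omega
  obtain ⟨gs, hgs⟩ := Submodule.FG.exists_span_set_encard_eq_spanFinrank (IsNoetherian.noetherian p)
  have hfin : gs.Finite := Set.finite_of_encard_eq_coe hgs.1
  have hcard : hfin.toFinset.card = Submodule.spanFinrank p := by
    have := hgs.1
    rw [hfin.encard_eq_coe_toFinset_card] at this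
    exact_mod_cast this
  let e := (hfin.toFinset.equivFinOfCardEq hcard).symm
  have hspan : Ideal.span (Set.range fun l => (e l).1) = p := by
    rw [show (Set.range fun l => (e l).1) = gs by
      ext x
      exact ⟨by rintro ⟨l, rfl⟩; exact hfin.mem_toFinset.1 (e l).2,
        fun hx => ⟨e.symm ⟨x, hfin.mem_toFinset.2 hx⟩, by simp⟩⟩]
    exact hgs.2
  obtain ⟨t, ht, hgc, hreg, hrk⟩ := exists_prefix p hg' hdim hlow _ hspan g le_rfl
  have hc : Submodule.spanFinrank p ≤ g + 1 := by
    rw [hg] at hgen
    exact_mod_cast hgen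
  set L := Ideal.ofList ((List.ofFn t).take g) with hLdef
  have hmem : ∀ r ∈ List.ofFn t, r ∈ p := fun r hr => by
    obtain ⟨l, rfl⟩ := List.mem_ofFn.1 hr
    exact ht ▸ Ideal.subset_span ⟨l, rfl⟩
  have hLp : L ≤ p := Ideal.span_le.2 fun r hr => hmem r (List.mem_of_mem_take hr)
  have hlocal : p ≤ (L.map (algebraMap T Tp)).comap (algebraMap T Tp) := by
    intro a ha
    exact Ideal.mem_comap.2 (le_map_of_cotSpan_eq_top p L
      (Submodule.eq_top_of_finrank_eq (le_antisymm (Submodule.finrank_le _) (hdim.le.trans hrk)))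
      ((IsLocalization.AtPrime.to_map_mem_maximal_iff _ p _).2 ha))
  -- squares are harmless modulo the regular part
  have hsq : ∀ a ∈ p, ∀ x : T, x * (a * a) ∈ L → p ≤ L ⊔ Ideal.span {a} → x * a ∈ L := by
    intro a ha x hx hpa
    by_contra hxa
    let Q := T ⧸ (L • ⊤ : Submodule T T)
    have hmk : ∀ z : T, (Submodule.Quotient.mk z : Q) = 0 ↔ z ∈ L := fun z => by
      rw [Submodule.Quotient.mk_eq_zero, smul_eq_mul, Ideal.mul_top]
    obtain ⟨q, hq, hann⟩ := exists_le_isAssociatedPrime_of_isNoetherianRing T
      (Submodule.Quotient.mk (x * a) : Q) (fun h => hxa ((hmk _).1 h))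
    haveI := hq.isPrime
    have hkill : ∀ z : T, z * (x * a) ∈ L → z ∈ q := fun z hz => hann <| by
      rw [Submodule.mem_colon_singleton, Submodule.mem_bot, ← Submodule.Quotient.mk_smul, hmk]
      exact hz
    have haq : a ∈ q := hkill a (by rwa [show a * (x * a) = x * (a * a) by ring])
    have hLq : L ≤ q := fun z hz => hkill z (Ideal.mul_mem_right _ _ hz)
    have hpq : p ≤ q := hpa.trans (sup_le hLq ((Ideal.span_singleton_le_iff_mem _).2 haq))
    have hqm : q ≤ maximalIdeal T := le_maximalIdeal hq.isPrime.ne_top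
    have hzero : LocCoh.idealDepth q Q = 0 := by
      refine LC.idealDepth_eq_zero_of_forall q
        (LC.smul_top_quot_ne_top q (LC.smul_top_ne_top_of_le_maximal hqm) hLq) fun r hr hreg' => ?_
      have hz : r ∈ ⋃ q ∈ associatedPrimes T Q, (q : Set T) := Set.mem_biUnion hq hr
      rw [biUnion_associatedPrimes_eq_zero_divisors T Q] at hz
      obtain ⟨y, hy0, hy⟩ := hz
      exact hy0 (hreg' (hy.trans (smul_zero r).symm))
    have hdep := LC.idealDepth_quot_ofList (M := T) q hreg fun r hr => hLq (Ideal.subset_span hr)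
    rw [hzero, zero_add, List.length_take, List.length_ofFn, Nat.min_eq_left hgc,
      LC.idealDepth_self_eq_height] at hdep
    have hqp : p = q := by
      by_contra hne
      have := Ideal.height_strict_mono_of_isPrime_of_isPrime (lt_of_le_of_ne hpq hne)
      rw [hg, ← hdep] at this
      exact lt_irrefl _ this
    obtain ⟨⟨l, s⟩, hls⟩ := (IsLocalization.mem_map_algebraMap_iff p.primeCompl Tp).1 (hlocal ha)
    obtain ⟨u, hu⟩ := (IsLocalization.eq_iff_exists p.primeCompl Tp).1 ((map_mul _ _ _).trans hls)
    have hus : (u : T) * (a * s) ∈ L := hu.symm ▸ Ideal.mul_mem_left _ _ l.2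
    have : ((u * s : p.primeCompl) : T) ∈ q := hkill _ (by
      rw [show ((u * s : p.primeCompl) : T) * (x * a) = x * ((u : T) * (a * s)) by push_cast; ring]
      exact Ideal.mul_mem_left _ _ hus)
    exact (u * s).2 (hqp ▸ this)
  refine ⟨List.ofFn t, ?_, fun i hi => ?_, fun i k hk hik => ?_⟩
  · refine Eq.trans ?_ ht
    rw [Ideal.ofList]
    congr 1
    ext r
    simp [List.mem_ofFn]
  · let F := ((Finset.univ : Finset (Fin (List.ofFn t).length)).erase i).image fun j => (List.ofFn t)[j]
    have hsp : Ideal.span (F : Set T) = p := by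
      have hF : Ideal.span (Set.range fun j : {j // j ≠ i} => (List.ofFn t)[(j : Fin _)]) ≤ Ideal.span (F : Set T) :=
        Ideal.span_mono (Set.range_subset_iff.2 fun j =>
          Finset.mem_coe.2 (Finset.mem_image.2 ⟨j.1, Finset.mem_erase.2 ⟨j.2, Finset.mem_univ _⟩, rfl⟩))
      refine le_antisymm (Ideal.span_le.2 fun r hr => ?_) ?_
      · obtain ⟨j, -, rfl⟩ := Finset.mem_image.1 (Finset.mem_coe.1 hr)
        exact hmem _ (List.getElem_mem _)
      · rw [← ht]
        refine Ideal.span_le.2 ?_
        rintro _ ⟨l, rfl⟩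
        have hl : t l = (List.ofFn t)[(⟨l, by simp⟩ : Fin (List.ofFn t).length)] := by simp
        rw [hl]
        by_cases h : (⟨l, by simp⟩ : Fin (List.ofFn t).length) = i
        · exact hF (h ▸ hi)
        · exact Ideal.subset_span (Finset.mem_coe.2 (Finset.mem_image.2
            ⟨_, Finset.mem_erase.2 ⟨h, Finset.mem_univ _⟩, rfl⟩))
    have h2 := Submodule.spanFinrank_span_le_ncard_of_finite (R := T) F.finite_toSet
    rw [show Submodule.span T _ = p from hsp, Set.ncard_coe_finset] at h2
    have h3 : F.card ≤ (List.ofFn t).length - 1 :=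
      Finset.card_image_le.trans (by rw [Finset.card_erase_of_mem (Finset.mem_univ _), Finset.card_univ,
        Fintype.card_fin])
    have h4 := i.2
    have h5 : (List.ofFn t).length = Submodule.spanFinrank p := List.length_ofFn
    omega
  · have hkc : k < Submodule.spanFinrank p := by rwa [List.length_ofFn] at hk
    ext x
    rw [Submodule.mem_colon_singleton, Submodule.mem_colon_singleton, smul_eq_mul, smul_eq_mul]
    refine ⟨fun hx => ?_, fun hx => by rw [← mul_assoc]; exact Ideal.mul_mem_right _ _ hx⟩
    by_cases hig : i < g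
    · have hr := (isWeaklyRegular_iff T _).1 hreg i (by simp; omega)
      rw [List.getElem_take, List.take_take, min_eq_left hig.le, isSMulRegular_quotient_iff_mem_of_smul_mem] at hr
      have := hr (x * (List.ofFn t)[k]) (by
        rw [smul_eq_mul, smul_eq_mul, Ideal.mul_top]
        convert hx using 1
        ring)
      rwa [smul_eq_mul, Ideal.mul_top] at this
    · obtain rfl : i = g := by omega
      obtain rfl : k = i := by omega
      refine hsq _ (hmem _ (List.getElem_mem _)) x hx ?_
      refine ht.ge.trans (Ideal.span_le.2 ?_)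
      rintro _ ⟨l, rfl⟩
      by_cases hl : (l : ℕ) < k
      · exact Ideal.mem_sup_left (Ideal.subset_span (List.mem_take_iff_getElem.2
          ⟨l, by simp; omega, by simp⟩))
      · refine Ideal.mem_sup_right (Ideal.subset_span ?_)
        have : (l : ℕ) = k := by have := l.2; omega
        simp [← this]

end Groth.Agent.GRRSingLib
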