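import Mathlib.RingTheory.Kaehler.TensorProduct
import Mathlib.RingTheory.Ideal.GoingUp
import Mathlib.RingTheory.Ideal.Cotangent
import Mathlib.RingTheory.Nullstellensatz
import Mathlib.RingTheory.Finiteness.Nakayama
import Mathlib.RingTheory.Jacobson.Ring
import Mathlib.RingTheory.Ideal.Height
import Mathlib.FieldTheory.IsAlgClosed.AlgebraicClosure
import Mathlib.Algebra.Module.SpanRank
import Mathlib.RingTheory.FiniteType
import Mathlib.RingTheory.FiniteStability
import Mathlib.RingTheory.TensorProduct.Finite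
import Mathlib.RingTheory.Ideal.Quotient.Operations
import Mathlib.RingTheory.RegularLocalRing.Defs
import Mathlib.RingTheory.Localization.Submodule
import Mathlib.RingTheory.LocalRing.ResidueField.Basic

/-!
# Generators of Kähler differentials from embedding dimension
-/

set_option autoImplicit false
set_option backward.isDefEq.respectTransparency false

universe u

open IsLocalRing TensorProduct

namespace Groth.Agent.GRRSingLib

/-- Over an algebraically closed field, the fibre of the differentials at a rational point is spanned by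
the differentials of local equations of the point. -/
theorem finrank_fibre_le {k B : Type u} [Field k] [CommRing B] [Algebra k B] [IsNoetherianRing B]
    (q : Ideal B) [q.IsMaximal] (hq : Function.Surjective (algebraMap k (B ⧸ q))) :
    Module.finrank (B ⧸ q) ((B ⧸ q) ⊗[B] Ω[B⁄k]) ≤
      Module.finrank (ResidueField (Localization.AtPrime q)) (CotangentSpace (Localization.AtPrime q)) := by
  classical
  let R := Localization.AtPrime q
  haveI : IsNoetherianRing R := inferInstance
  let n := Module.finrank (ResidueField R) (CotangentSpace R)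
  obtain ⟨gs, hgs⟩ := Submodule.FG.exists_span_set_encard_eq_spanFinrank (IsNoetherian.noetherian (maximalIdeal R))
  have hfin : gs.Finite := Set.finite_of_encard_eq_coe hgs.1
  have hcard : hfin.toFinset.card = n := by
    have := hgs.1
    rw [hfin.encard_eq_coe_toFinset_card, spanFinrank_maximalIdeal_eq_finrank_cotangentSpace] at this
    exact_mod_cast this
  have hnum : ∀ r : hfin.toFinset, ∃ g ∈ q, ∃ s : q.primeCompl, r.1 = IsLocalization.mk' R g s := fun r => by
    obtain ⟨g, s, hgs'⟩ := IsLocalization.exists_mk'_eq q.primeCompl r.1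
    refine ⟨g, ?_, s, hgs'.symm⟩
    have : r.1 ∈ maximalIdeal R := hgs.2 ▸ Ideal.subset_span (hfin.mem_toFinset.1 r.2)
    rw [← hgs', IsLocalization.AtPrime.mk'_mem_maximal_iff R q] at this
    exact this
  choose g hg s hs using hnum
  let G : Ideal B := Ideal.span (Set.range g)
  let δ : B → (B ⧸ q) ⊗[B] Ω[B⁄k] := fun x => 1 ⊗ₜ KaehlerDifferential.D k B x
  let W : Submodule (B ⧸ q) ((B ⧸ q) ⊗[B] Ω[B⁄k]) := Submodule.span _ (Set.range (δ ∘ g))
  have hmul : ∀ a b : B, δ (a * b) = Ideal.Quotient.mk q a • δ b + Ideal.Quotient.mk q b • δ a := fun a b => by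
    simp only [δ, Derivation.leibniz, TensorProduct.tmul_add, TensorProduct.smul_tmul', smul_eq_mul, mul_one]
    rw [← TensorProduct.smul_tmul, ← TensorProduct.smul_tmul, Algebra.smul_def, Algebra.smul_def, mul_one, mul_one]
    rfl
  have hG : ∀ y ∈ G, δ y ∈ W := fun y hy => by
    obtain ⟨c, rfl⟩ := Ideal.mem_span_range_iff_exists_fun.1 hy
    simp only [δ, map_sum, TensorProduct.tmul_sum]
    refine Submodule.sum_mem _ fun i _ => ?_
    show δ (c i * g i) ∈ W
    rw [hmul, show Ideal.Quotient.mk q (g i) = 0 from Ideal.Quotient.eq_zero_iff_mem.2 (hg i), zero_smul, add_zero]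
    exact Submodule.smul_mem _ _ (Submodule.subset_span ⟨i, rfl⟩)
  have hq' : ∀ x ∈ q, δ x ∈ W := fun x hx => by
    have hmap : algebraMap B R x ∈ G.map (algebraMap B R) := by
      have : maximalIdeal R ≤ G.map (algebraMap B R) := by
        rw [← hgs.2, Ideal.span_le]
        intro r hr
        rw [SetLike.mem_coe, show r = (⟨r, hfin.mem_toFinset.2 hr⟩ : hfin.toFinset).1 from rfl, hs,
          IsLocalization.mk'_mem_iff]
        exact Ideal.mem_map_of_mem _ (Ideal.subset_span ⟨_, rfl⟩)
      exact this ((IsLocalization.AtPrime.to_map_mem_maximal_iff R q x).2 hx)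
    obtain ⟨⟨l, u⟩, hlu⟩ := (IsLocalization.mem_map_algebraMap_iff q.primeCompl R).1 hmap
    obtain ⟨v, hv⟩ := (IsLocalization.eq_iff_exists q.primeCompl R).1 ((map_mul _ _ _).trans hlu)
    have h1 := hG _ (Ideal.mul_mem_left G (v : B) l.2)
    rw [← hv, show (v : B) * (x * u) = (v * u : B) * x by ring, hmul,
      show Ideal.Quotient.mk q x = 0 from Ideal.Quotient.eq_zero_iff_mem.2 hx, zero_smul, add_zero] at h1
    obtain ⟨a, ha⟩ := Ideal.Quotient.exists_inv (I := q) (a := Ideal.Quotient.mk q (v * u : B))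
      (fun h => (v * u).2 (Ideal.Quotient.eq_zero_iff_mem.1 h))
    have := W.smul_mem a h1
    rwa [smul_smul, mul_comm, ha, one_smul] at this
  have htop : W = ⊤ := top_le_iff.1 fun z hz => by
    clear hz
    induction z with
    | zero => exact zero_mem _
    | add a b ha hb => exact add_mem ha hb
    | tmul c w =>
      rw [show c ⊗ₜ[B] w = c • ((1 : B ⧸ q) ⊗ₜ[B] w) by rw [TensorProduct.smul_tmul', smul_eq_mul, mul_one]]
      refine Submodule.smul_mem _ _ ?_
      have hw : w ∈ Submodule.span B (Set.range (KaehlerDifferential.D k B)) := by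
        rw [KaehlerDifferential.span_range_derivation]; trivial
      induction hw using Submodule.span_induction with
      | mem w h =>
        obtain ⟨x, rfl⟩ := h
        obtain ⟨a, ha⟩ := hq (Ideal.Quotient.mk q x)
        have hsub : x - algebraMap k B a ∈ q := by
          rw [← Ideal.Quotient.eq_zero_iff_mem, map_sub, ← ha]
          exact sub_eq_zero.2 rfl
        have := hq' _ hsub
        simpa [δ] using this
      | zero => rw [TensorProduct.tmul_zero]; exact zero_mem _
      | add a b _ _ ha hb => rw [TensorProduct.tmul_add]; exact add_mem ha hb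
      | smul b a _ ha =>
        rw [TensorProduct.tmul_smul, ← algebraMap_smul (B ⧸ q) b]
        exact Submodule.smul_mem _ _ ha
  calc Module.finrank (B ⧸ q) ((B ⧸ q) ⊗[B] Ω[B⁄k])
      = Module.finrank (B ⧸ q) W := by rw [htop, finrank_top]
    _ ≤ (Set.range (δ ∘ g)).toFinset.card := finrank_span_le_card _
    _ ≤ n := by
      rw [Set.toFinset_range]
      exact Finset.card_image_le.trans (by rw [Finset.card_univ, Fintype.card_coe, hcard])

/-- Generators at a localization from the dimension of a fibre at a specialization. -/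
theorem exists_generators {A M : Type u} [CommRing A] [AddCommGroup M] [Module A M] [Module.Finite A M]
    (m : Ideal A) [m.IsMaximal] {n : ℕ} (hn : Module.finrank (A ⧸ m) ((A ⧸ m) ⊗[A] M) ≤ n)
    (p : Ideal A) [p.IsPrime] (hpm : p ≤ m) :
    ∃ s : Finset (LocalizedModule p.primeCompl M), s.card ≤ n ∧
      Submodule.span (Localization.AtPrime p) (s : Set (LocalizedModule p.primeCompl M)) = ⊤ := by
  classical
  letI := Ideal.Quotient.field m
  let b := Module.finBasis (A ⧸ m) ((A ⧸ m) ⊗[A] M)
  have hsurj : Function.Surjective (TensorProduct.mk A (A ⧸ m) M 1) :=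
    TensorProduct.mk_surjective A M (A ⧸ m) Ideal.Quotient.mk_surjective
  choose y hy using fun i => hsurj (b i)
  let N := Submodule.span A (Set.range y)
  have hle : (⊤ : Submodule A (M ⧸ N)) ≤ m • ⊤ := by
    rintro v -
    obtain ⟨v, rfl⟩ := N.mkQ_surjective v
    have hv : ∀ z : (A ⧸ m) ⊗[A] M, ∃ w ∈ N, (1 : A ⧸ m) ⊗ₜ[A] w = z := fun z => by
      rw [← b.sum_repr z]
      choose c hc using fun i => Ideal.Quotient.mk_surjective (b.repr z i)
      refine ⟨∑ i, c i • y i, Submodule.sum_mem _ fun i _ =>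
        Submodule.smul_mem _ _ (Submodule.subset_span ⟨i, rfl⟩), ?_⟩
      rw [TensorProduct.tmul_sum]
      refine Finset.sum_congr rfl fun i _ => ?_
      rw [TensorProduct.tmul_smul, ← TensorProduct.mk_apply, hy, ← algebraMap_smul (A ⧸ m) (c i)]
      exact congrArg (· • b i) (hc i)
    obtain ⟨w, hw, hwv⟩ := hv ((1 : A ⧸ m) ⊗ₜ[A] v)
    have h0 : v - w ∈ m • (⊤ : Submodule A M) := by
      have : (1 : A ⧸ m) ⊗ₜ[A] (v - w) = 0 := by rw [TensorProduct.tmul_sub, hwv, sub_self]
      have h' := congrArg (TensorProduct.quotTensorEquivQuotSMul M m) this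
      rw [map_zero, ← map_one (Ideal.Quotient.mk m), TensorProduct.quotTensorEquivQuotSMul_mk_tmul, one_smul] at h'
      exact (Submodule.Quotient.mk_eq_zero _).1 h'
    have := Submodule.mem_map_of_mem (f := N.mkQ) h0
    rw [Submodule.map_smul'', Submodule.map_top, Submodule.range_mkQ, map_sub,
      show N.mkQ w = 0 from (Submodule.Quotient.mk_eq_zero _).2 hw, sub_zero] at this
    exact this
  obtain ⟨r, hr1, hr0⟩ := Submodule.exists_sub_one_mem_and_smul_eq_zero_of_fg_of_le_smul m _
    (Module.Finite.fg_top (R := A) (M := M ⧸ N)) hle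
  have hrp : r ∈ p.primeCompl := fun h => (Ideal.IsPrime.ne_top (I := m) inferInstance)
    ((Ideal.eq_top_iff_one _).2 (by simpa using m.sub_mem (hpm h) hr1))
  let f := LocalizedModule.mkLinearMap p.primeCompl M
  refine ⟨(Finset.univ.image y).image f, (Finset.card_image_le.trans Finset.card_image_le).trans
    (by rw [Finset.card_univ, Fintype.card_fin]; exact hn), top_le_iff.1 fun v _ => ?_⟩
  obtain ⟨⟨v, s⟩, rfl⟩ := Quotient.exists_rep v
  have hrv : r • v ∈ N := by
    rw [← Submodule.Quotient.mk_eq_zero, Submodule.Quotient.mk_smul]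
    exact hr0 _ Submodule.mem_top
  have hN : f (r • v) ∈ Submodule.span (Localization.AtPrime p)
      (((Finset.univ.image y).image f : Finset _) : Set (LocalizedModule p.primeCompl M)) := by
    have := Submodule.mem_map_of_mem (f := f) hrv
    rw [Submodule.map_span, ← Set.range_comp] at this
    refine Submodule.span_le_restrictScalars A (Localization.AtPrime p) _ ?_
    simpa [Set.range_comp] using this
  have heq : LocalizedModule.mk v s = Localization.mk 1 (⟨r, hrp⟩ * s) • f (r • v) := by
    rw [LocalizedModule.mkLinearMap_apply, LocalizedModule.mk_smul_mk, one_smul, mul_one,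
      LocalizedModule.mk_eq]
    exact ⟨1, by simp [Submonoid.smul_def, mul_smul, smul_comm r]⟩
  show LocalizedModule.mk v s ∈ _
  rw [heq]
  exact Submodule.smul_mem _ _ hN

/-- Few generators for the differentials of a geometrically integral variety with hypersurface singularities. -/
theorem exists_kaehler_generators {K A : Type u} [Field K] [CommRing A] [Algebra K A] [Algebra.FiniteType K A]
    {L : Type u} [Field L] [Algebra K L] [IsAlgClosed L] [Algebra.IsIntegral K L]
    (hhyp : ∀ (q : Ideal (TensorProduct K L A)) [q.IsPrime],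
      (Module.finrank (ResidueField (Localization.AtPrime q)) (CotangentSpace (Localization.AtPrime q)) : ℕ∞)
        ≤ q.height + 1)
    (d : ℕ) (hd : ringKrullDim A = d) (p : Ideal A) [p.IsPrime] :
    ∃ s : Finset (LocalizedModule p.primeCompl (KaehlerDifferential K A)),
      s.card ≤ d + 1 ∧ Submodule.span (Localization.AtPrime p)
        (s : Set (LocalizedModule p.primeCompl (KaehlerDifferential K A))) = ⊤ := by
  classical
  letI : Algebra A (L ⊗[K] A) := Algebra.TensorProduct.rightAlgebra
  haveI : IsScalarTower K A (L ⊗[K] A) := IsScalarTower.of_algebraMap_eq fun r => by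
    simp [Algebra.TensorProduct.algebraMap_apply, Algebra.algebraMap_eq_smul_one, TensorProduct.smul_tmul',
      TensorProduct.tmul_smul]
  haveI : Algebra.IsPushout K L A (L ⊗[K] A) := TensorProduct.isPushout
  have hinj : Function.Injective (algebraMap A (L ⊗[K] A)) :=
    Algebra.TensorProduct.includeRight_injective (R := K) (A := L) (B := A) (algebraMap K L).injective
  haveI : FaithfulSMul A (L ⊗[K] A) := (faithfulSMul_iff_algebraMap_injective A (L ⊗[K] A)).2 hinj
  haveI : Algebra.IsIntegral A (L ⊗[K] A) := ⟨fun b => by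
    induction b using TensorProduct.induction_on with
    | zero => exact isIntegral_zero
    | add a b ha hb => exact ha.add hb
    | tmul l a =>
      have h1 : IsIntegral A ((algebraMap L (L ⊗[K] A)) l) := IsIntegral.tower_top
        ((Algebra.IsIntegral.isIntegral (R := K) l).map (IsScalarTower.toAlgHom K L (L ⊗[K] A)))
      rw [show l ⊗ₜ[K] a = algebraMap L (L ⊗[K] A) l * algebraMap A (L ⊗[K] A) a by
        show l ⊗ₜ[K] a = (l ⊗ₜ[K] (1 : A)) * ((1 : L) ⊗ₜ[K] a)
        simp]
      exact h1.mul isIntegral_algebraMap⟩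
  obtain ⟨m, hm, hpm⟩ := Ideal.exists_le_maximal p (Ideal.IsPrime.ne_top inferInstance)
  obtain ⟨q, hq, hqm⟩ := Ideal.exists_maximal_ideal_liesOver_of_isIntegral (S := (L ⊗[K] A)) m
  haveI : IsNoetherianRing (L ⊗[K] A) := Algebra.FiniteType.isNoetherianRing L (L ⊗[K] A)
  have hht : q.height ≤ d := by
    have h1 : ringKrullDim (L ⊗[K] A) ≤ ringKrullDim A := Order.krullDim_le_of_strictMono
      (PrimeSpectrum.comap (algebraMap A (L ⊗[K] A))) fun x y hxy =>
        Ideal.IsIntegral.comap_lt_comap (A := (L ⊗[K] A)) hxy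
    have h2 := Ideal.height_le_ringKrullDim_of_ne_top hq.ne_top
    have := h2.trans (h1.trans hd.le)
    exact_mod_cast this
  have hrat : Function.Surjective (algebraMap L ((L ⊗[K] A) ⧸ q)) := by
    haveI : Algebra.FiniteType L ((L ⊗[K] A) ⧸ q) := inferInstance
    letI alg : Algebra L ((L ⊗[K] A) ⧸ q) := inferInstance
    letI := Ideal.Quotient.field q
    letI : Algebra L ((L ⊗[K] A) ⧸ q) := { alg with }
    haveI : Module.Finite L ((L ⊗[K] A) ⧸ q) := finite_of_finite_type_of_isJacobsonRing L ((L ⊗[K] A) ⧸ q)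
    exact (IsAlgClosed.algebraMap_bijective_of_isIntegral (k := L) (K := (L ⊗[K] A) ⧸ q)).2
  have h1 := finrank_fibre_le q hrat
  have h2 : Module.finrank (ResidueField (Localization.AtPrime q)) (CotangentSpace (Localization.AtPrime q)) ≤ d + 1 := by
    have := (hhyp q).trans (add_le_add_left hht 1)
    exact_mod_cast this
  refine exists_generators m ?_ p hpm
  letI := Ideal.Quotient.field m
  letI := Ideal.Quotient.field q
  haveI : q.LiesOver m := hqm
  let e : ((L ⊗[K] A) ⧸ q) ⊗[A] Ω[A⁄K] ≃ₗ[(L ⊗[K] A) ⧸ q] ((L ⊗[K] A) ⧸ q) ⊗[(L ⊗[K] A)] Ω[(L ⊗[K] A)⁄L] :=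
    (AlgebraTensorModule.cancelBaseChange A (L ⊗[K] A) ((L ⊗[K] A) ⧸ q) ((L ⊗[K] A) ⧸ q) Ω[A⁄K]).symm ≪≫ₗ
      AlgebraTensorModule.congr (LinearEquiv.refl ((L ⊗[K] A) ⧸ q) ((L ⊗[K] A) ⧸ q)) (KaehlerDifferential.tensorKaehlerEquiv K L A (L ⊗[K] A))
  let e' : ((L ⊗[K] A) ⧸ q) ⊗[A ⧸ m] ((A ⧸ m) ⊗[A] Ω[A⁄K]) ≃ₗ[(L ⊗[K] A) ⧸ q] ((L ⊗[K] A) ⧸ q) ⊗[A] Ω[A⁄K] :=
    AlgebraTensorModule.cancelBaseChange A (A ⧸ m) ((L ⊗[K] A) ⧸ q) ((L ⊗[K] A) ⧸ q) Ω[A⁄K]
  rw [← Module.finrank_baseChange (R := (L ⊗[K] A) ⧸ q), (e'.trans e).finrank_eq]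
  exact h1.trans h2

end Groth.Agent.GRRSingLib
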